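import Cfsg.Agent.N2.Cl.Cyc.Num

/-!
# N2 (S3519), unitary groups, imprimitive subgroups: the numbers (helper86)
-/

set_option autoImplicit false

namespace Cfsg.Agent.N2C.FrU

open Cfsg.Agent.N2C.Cyc Nat

/-- the crude inequality -/
def PQ (q m t : ℕ) : Prop :=
  t ! * (q + 1) ^ (3 * m * t + t) * q ^ (t * m ^ 2 + 3) ≤ (q ^ 2 - 1) * (q + 1) ^ 4 * q ^ (m ^ 2 * t ^ 2 + t)

/-- the cases in which it fails -/
def Exc (q m t : ℕ) : Prop :=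
  (q = 2 ∧ ((m = 1 ∧ t = 5) ∨ (m = 1 ∧ t = 6) ∨ (m = 2 ∧ t = 3) ∨ (m = 3 ∧ t = 2) ∨ (m = 1 ∧ t = 7) ∨ (m = 4 ∧ t = 2))) ∨
    (q = 3 ∧ ((m = 1 ∧ t = 5) ∨ (m = 3 ∧ t = 2))) ∨ (q = 4 ∧ m = 3 ∧ t = 2)

variable {q m t : ℕ}

theorem succ_le_sq (hq : 2 ≤ q) (k : ℕ) : (q + 1) ^ k ≤ q ^ (2 * k) := by
  rw [pow_mul]
  exact Nat.pow_le_pow_left (by nlinarith) k

theorem base_le {q₀ C k j : ℕ} (h0 : 1 ≤ q₀) (hq : q₀ ≤ q) (h : C * (q₀ + 1) ^ k ≤ (q₀ ^ 2 - 1) * q₀ ^ (k + j)) :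
    C * (q + 1) ^ k ≤ (q ^ 2 - 1) * q ^ (k + j) := by
  refine Nat.le_of_mul_le_mul_right ?_ (Nat.pow_pos (n := k) h0)
  calc C * (q + 1) ^ k * q₀ ^ k = C * ((q + 1) * q₀) ^ k := by rw [mul_pow, mul_assoc]
    _ ≤ C * ((q₀ + 1) * q) ^ k := Nat.mul_le_mul_left _ (Nat.pow_le_pow_left (by nlinarith) k)
    _ = C * (q₀ + 1) ^ k * q ^ k := by rw [mul_pow, mul_assoc]
    _ ≤ (q₀ ^ 2 - 1) * q₀ ^ (k + j) * q ^ k := Nat.mul_le_mul_right _ h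
    _ = (q₀ ^ 2 - 1) * q₀ ^ j * (q ^ k * q₀ ^ k) := by ring
    _ ≤ (q ^ 2 - 1) * q ^ j * (q ^ k * q₀ ^ k) := Nat.mul_le_mul_right _
        (Nat.mul_le_mul (Nat.sub_le_sub_right (Nat.pow_le_pow_left hq 2) 1) (Nat.pow_le_pow_left hq j))
    _ = _ := by ring

theorem PQ.base {q₀ k j : ℕ} (h0 : 1 ≤ q₀) (hq : q₀ ≤ q) (h1 : 3 * m * t + t = k + 4)
    (h2 : m ^ 2 * t ^ 2 + t = k + j + (t * m ^ 2 + 3)) (h : t ! * (q₀ + 1) ^ k ≤ (q₀ ^ 2 - 1) * q₀ ^ (k + j)) : PQ q m t := by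
  unfold PQ
  rw [h1, h2]
  calc _ = t ! * (q + 1) ^ k * ((q + 1) ^ 4 * q ^ (t * m ^ 2 + 3)) := by ring
    _ ≤ (q ^ 2 - 1) * q ^ (k + j) * ((q + 1) ^ 4 * q ^ (t * m ^ 2 + 3)) := Nat.mul_le_mul_right _ (base_le h0 hq h)
    _ = _ := by ring

theorem PQ.step (hq : 2 ≤ q) (h : PQ q m t) {e : ℕ} (h1 : t + 1 ≤ 2 ^ e) (h2 : 6 * m + 1 + e ≤ 2 * t * m ^ 2) :
    PQ q m (t + 1) := by
  have h3 : (t + 1) * (q + 1) ^ (3 * m + 1) ≤ q ^ (2 * t * m ^ 2 + 1) :=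
    (Nat.mul_le_mul (h1.trans (Nat.pow_le_pow_left hq e)) (succ_le_sq hq _)).trans (by
      rw [← pow_add]
      exact Nat.pow_le_pow_right (by omega) (by omega))
  unfold PQ at h ⊢
  rw [factorial_succ]
  calc _ = t ! * (q + 1) ^ (3 * m * t + t) * q ^ (t * m ^ 2 + 3) * ((t + 1) * (q + 1) ^ (3 * m + 1)) * q ^ m ^ 2 := by ring
    _ ≤ (q ^ 2 - 1) * (q + 1) ^ 4 * q ^ (m ^ 2 * t ^ 2 + t) * q ^ (2 * t * m ^ 2 + 1) * q ^ m ^ 2 :=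
        Nat.mul_le_mul_right _ (Nat.mul_le_mul h h3)
    _ = _ := by ring

theorem PQ.up (hq : 2 ≤ q) {t₀ : ℕ} (h : PQ q m t₀) (h1 : (m = 1 ∧ 5 ≤ t₀) ∨ (2 ≤ m ∧ 2 ≤ t₀)) (ht : t₀ ≤ t) : PQ q m t := by
  induction t, ht using Nat.le_induction with
  | base => exact h
  | succ t ht ih =>
    rcases h1 with ⟨rfl, h1⟩ | ⟨h1, h2⟩
    · obtain ⟨s, rfl⟩ : ∃ s, t = s + 5 := ⟨t - 5, by omega⟩
      have h3 : s < 2 ^ s := Nat.lt_two_pow_self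
      exact ih.step hq (e := s + 3) (by rw [pow_add]; omega) (by omega)
    · refine ih.step hq (e := t) Nat.lt_two_pow_self ?_
      obtain ⟨s, rfl⟩ : ∃ s, t = s + 2 := ⟨t - 2, by omega⟩
      obtain ⟨r, rfl⟩ : ∃ r, m = r + 2 := ⟨m - 2, by omega⟩
      nlinarith [Nat.zero_le (s * r), Nat.zero_le (s * r ^ 2), Nat.zero_le (r ^ 2)]

theorem PQ.two (hq : 2 ≤ q) {m₀ : ℕ} (h : PQ q m₀ 2) (h1 : 3 ≤ m₀) (hm : m₀ ≤ m) : PQ q m 2 := by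
  induction m, hm using Nat.le_induction with
  | base => exact h
  | succ m hm ih =>
    have h3 : (q + 1) ^ 6 ≤ q ^ (4 * m + 2) := (succ_le_sq hq _).trans (Nat.pow_le_pow_right (by omega) (by omega))
    unfold PQ at ih ⊢
    calc _ = 2 ! * (q + 1) ^ (3 * m * 2 + 2) * q ^ (2 * m ^ 2 + 3) * (q + 1) ^ 6 * q ^ (4 * m + 2) := by ring
      _ ≤ (q ^ 2 - 1) * (q + 1) ^ 4 * q ^ (m ^ 2 * 2 ^ 2 + 2) * q ^ (4 * m + 2) * q ^ (4 * m + 2) :=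
          Nat.mul_le_mul_right _ (Nat.mul_le_mul ih h3)
      _ = _ := by ring

theorem pq_of (hq : 2 ≤ q) (hm : 1 ≤ m) (ht : 2 ≤ t) (h5 : 5 ≤ m * t) (hx : ¬ Exc q m t) : PQ q m t := by
  unfold Exc at hx
  obtain rfl | rfl | h3 : m = 1 ∨ m = 2 ∨ 3 ≤ m := by omega
  · obtain rfl | rfl | h4 : q = 2 ∨ q = 3 ∨ 4 ≤ q := by omega
    · exact PQ.up hq (t₀ := 8) (by unfold PQ; decide +kernel) (by omega) (by omega)
    · exact PQ.up hq (t₀ := 6) (by unfold PQ; decide +kernel) (by omega) (by omega)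
    · exact PQ.up hq (t₀ := 5) (PQ.base (q₀ := 4) (k := 16) (j := 6) (by omega) h4 rfl rfl (by decide +kernel))
        (by omega) (by omega)
  · obtain rfl | h4 : q = 2 ∨ 3 ≤ q := by omega
    · exact PQ.up hq (t₀ := 4) (by unfold PQ; decide +kernel) (by omega) (by omega)
    · exact PQ.up hq (t₀ := 3) (PQ.base (q₀ := 3) (k := 17) (j := 7) (by omega) h4 rfl rfl (by decide +kernel))
        (by omega) (by omega)
  by_cases h4 : 5 ≤ q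
  · exact PQ.up hq (PQ.two hq (PQ.base (q₀ := 5) (m := 3) (k := 16) (j := 1) (by omega) h4 rfl rfl (by decide +kernel))
      le_rfl h3) (by omega) ht
  by_cases h6 : 3 ≤ q ∧ 4 ≤ m
  · exact PQ.up hq (PQ.two hq (PQ.base (q₀ := 3) (m := 4) (k := 22) (j := 9) (by omega) h6.1 rfl rfl (by decide +kernel))
      (by omega) h6.2) (by omega) ht
  by_cases h7 : 5 ≤ m
  · exact PQ.up hq (PQ.two hq (PQ.base (q₀ := 2) (m := 5) (k := 28) (j := 21) (by omega) hq rfl rfl (by decide +kernel))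
      (by omega) h7) (by omega) ht
  obtain rfl | rfl : m = 3 ∨ m = 4 := by omega
  · exact PQ.up hq (t₀ := 3) (PQ.base (q₀ := 2) (k := 26) (j := 28) (by omega) hq rfl rfl (by decide +kernel))
      (by omega) (by omega)
  · exact PQ.up hq (t₀ := 3) (PQ.base (q₀ := 2) (k := 35) (j := 61) (by omega) hq rfl rfl (by decide +kernel))
      (by omega) (by omega)

/-- **the crude inequality** -/
theorem num_gen (hq : 2 ≤ q) (hm : 1 ≤ m) (ht : 2 ≤ t) (h5 : 5 ≤ m * t) (hx : ¬ Exc q m t) :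
    ((q + 1) ^ (m * t - 1)) ^ 3 * (t ! * oGU m q ^ t) ≤ oGU (m * t) q := by
  have h1 := pq_of hq hm ht h5 hx
  have h2 := oGU_le (q := q) (by omega) hm
  have h3 := oGU_ge hq (n := m * t) (by omega)
  unfold PQ at h1
  rw [← mul_pow m t, mul_assoc 3] at h1
  generalize m * t = n at h1 h3 h5 ⊢
  obtain ⟨a, ha⟩ : ∃ a, m ^ 2 = a + 1 := ⟨m ^ 2 - 1, by have := Nat.pow_pos (n := 2) hm; omega⟩
  obtain ⟨b, hb⟩ : ∃ b, n ^ 2 = b + 3 := ⟨n ^ 2 - 3, by have := Nat.pow_le_pow_left h5 2; omega⟩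
  obtain ⟨n, rfl⟩ : ∃ k, n = k + 1 := ⟨n - 1, by omega⟩
  rw [ha] at h1 h2
  rw [hb] at h1 h3
  rw [Nat.add_sub_cancel] at h2 h3 ⊢
  refine le_trans (Nat.le_of_mul_le_mul_right ?_ (show 0 < (q + 1) ^ 3 * q ^ (t + 3) by positivity)) h3
  calc _ ≤ ((q + 1) ^ n) ^ 3 * (t ! * ((q + 1) * q ^ a) ^ t) * ((q + 1) ^ 3 * q ^ (t + 3)) :=
        Nat.mul_le_mul_right _ (Nat.mul_le_mul_left _ (Nat.mul_le_mul_left _ (Nat.pow_le_pow_left h2 t)))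
    _ = t ! * (q + 1) ^ (3 * (n + 1) + t) * q ^ (t * (a + 1) + 3) := by
        rw [mul_pow]
        ring
    _ ≤ _ := h1
    _ = _ := by ring

end Cfsg.Agent.N2C.FrU
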