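import Cfsg.Agent.N2.Cl.FrU.Cv
import Cfsg.Agent.N2.Cl.FrU.Num

/-!
# N2 (S3519), unitary groups, imprimitive subgroups: `frU : OnU 5 pFr` (helper86)

The element is a monomial `n`-cycle of an adapted orthonormal basis; for `U₆(2)` a product of two 3-cycles.
-/

set_option autoImplicit false
set_option linter.unusedSectionVars false

namespace Cfsg.Agent.N2C.FrU

open Cfsg Cfsg.Agent.DS.Cl Cfsg.Agent.DS.Cl.Fwd Module Equiv
open Cfsg.Agent.SB.Cl (IsU rk)
open Cfsg.Agent.TH.Cl (KU)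
open Cfsg.Agent.N2C.Cyc

variable {K V : Type} [Field K] [Fintype K] [AddCommGroup V] [Module K V] [Finite V] {h : HF K V} {F : FR h.EB} {q : ℕ}
  {D : Finset h.EB} {m t : ℕ} {H : Subgroup (RingAut h.EB)} {p : ℕ}

section gen

variable {ι T : Type} [Fintype ι] [DecidableEq ι] [Fintype T] [DecidableEq T] {β : ι → T} (f : Fm h D β m)
include f

theorem Fm.dim : finrank K V = Fintype.card ι := finrank_eq_card_basis f.v

theorem Fm.top {W : Submodule K V} (hW : ∀ i, f.v i ∈ W) : W = ⊤ :=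
  eq_top_iff.2 (f.v.span_eq.ge.trans (Submodule.span_le.2 (Set.range_subset_iff.2 hW)))

theorem Fm.next {σ : Perm ι} {c : ι → K} (hc : ∀ i, c i * h.τ (c i) = 1) {W : Submodule K V}
    (hW : ∀ x ∈ W, h.ap (f.mo σ c) x ∈ W) {i : ι} (hi : f.v i ∈ W) : f.v (σ i) ∈ W :=
  (W.smul_mem_iff (left_ne_zero_of_mul_eq_one (hc i))).1 (f.ap_mo σ c i ▸ hW _ hi)

theorem Fm.pow_one {u x : f.PP F} (k : IsConj u.1.1 x.1.1) {n : ℕ} {s : K} (hu : ((u.1.1 : h.EBˣ) : h.EB) ^ n = sc h s) :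
    x.1.2 ^ n = 1 := by
  obtain ⟨w, hw⟩ := isConj_iff.1 k
  have h1 : (((x ^ n : f.PP F).1.1 : h.EBˣ) : h.EB) = sc h s := by
    change ((x.1.1 ^ n : F.Iso) : h.EBˣ).1 = _
    rw [← hw, conj_pow]
    change ((w : h.EBˣ) : h.EB) * ((u.1.1 ^ n : F.Iso) : h.EBˣ) * ((w : h.EBˣ)⁻¹ : h.EBˣ) = _
    rw [SubmonoidClass.coe_pow, Units.val_pow_eq_pow_val, hu, ← sc_comm, Units.mul_inv_cancel_right]
  refine Perm.ext fun a => f.inj ?_
  have h2 := (x ^ n).2 a
  rw [show (((x ^ n : f.PP F).1.1 : h.EBˣ) : h.EB) * f.e a = f.e a * ((x ^ n : f.PP F).1.1 : h.EBˣ) by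
    rw [h1, sc_comm]] at h2
  exact ((Units.mul_left_inj _).1 h2).symm

end gen

theorem dim_eq (hU : IsU h) (hD : Fr D) (hm : ∀ e ∈ D, rk h e = m) : finrank K V = m * D.card := by
  obtain ⟨f⟩ := exists_fm hU hD hm (ι := Fin D.card × Fin m) Prod.fst (Fintype.card_fin _) fun t => by
    rw [Nat.card_congr (Equiv.prodSubtypeFstEquivSubtypeProd (p := (· = t)))]
    simp
  rw [f.dim, Fintype.card_prod, Fintype.card_fin, Fintype.card_fin, mul_comm]

theorem fib_cast {n : ℕ} [NeZero n] [NeZero t] (hn : n = m * t) (a : ZMod t) :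
    Nat.card {i : ZMod n // ZMod.castHom (Dvd.intro_left m hn.symm) (ZMod t) i = a} = m := by
  let φ := (ZMod.castHom (Dvd.intro_left m hn.symm) (ZMod t)).toAddMonoidHom
  have h1 : Function.Surjective φ := ZMod.castHom_surjective (Dvd.intro_left m hn.symm)
  have h2 := φ.ker.card_mul_index
  rw [AddSubgroup.index_ker, AddMonoidHom.range_eq_top.2 h1, AddSubgroup.card_top, Nat.card_zmod, Nat.card_zmod] at h2
  exact (Nat.card_congr (AddMonoidHom.fiberEquivKerOfSurjective h1 a)).trans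
    (Nat.eq_of_mul_eq_mul_right (NeZero.pos t) (h2.trans hn))

/-- the `n`-cycle -/
theorem exists_cyc (hL : F.L = Lmax _) {n : ℕ} [NeZero n] [NeZero t] (hn : n = m * t)
    (f : Fm h D (fun i : ZMod n => ZMod.castHom (Dvd.intro_left m hn.symm) (ZMod t) i) m) :
    ∃ (u : f.PP F) (s : K), LinearMap.det (h.ap (u.1.1 : h.EBˣ)) = 1 ∧ Cv h (u.1.1 : h.EBˣ) (f.v 0) ∧ s ≠ 0 ∧
      ((u.1.1 : h.EBˣ) : h.EB) ^ n = sc h s := by
  let σ : Perm (ZMod n) := Equiv.addRight 1
  obtain ⟨s, hs⟩ : ∃ s : K, s = ((Perm.sign σ : ℤ) : K) := ⟨_, rfl⟩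
  have h1 : s * s = 1 := by rw [hs, ← Int.cast_mul, Int.units_coe_mul_self, Int.cast_one]
  let c : ZMod n → K := fun i => if i = -1 then s else 1
  have hc : ∀ i, c i * h.τ (c i) = 1 := fun i => by
    simp only [c]
    split_ifs
    · rw [hs, map_intCast, ← hs, h1]
    · simp
  have h2 : Cv h (f.mo σ c) (f.v 0) := fun W h0 hW => f.top fun i => by
    obtain ⟨j, rfl⟩ := ZMod.natCast_zmod_surjective i
    induction j with
    | zero => rwa [Nat.cast_zero]
    | succ j ih => exact Nat.cast_succ (R := ZMod n) j ▸ f.next hc hW ih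
  refine ⟨⟨(f.mi hL σ hc, Equiv.addRight 1), f.mo_e (fun i => (map_add _ i 1).trans (by rw [map_one]; rfl)) _⟩, s,
    (f.det_mo σ c).trans (by rw [← hs, Finset.prod_ite_eq', if_pos (Finset.mem_univ _), h1]), h2,
    left_ne_zero_of_mul_eq_one h1, ?_⟩
  change f.mo σ c ^ n = _
  have h3 : ∀ j : ℕ, j < n → h.ap (f.mo σ c ^ j) (f.v 0) = f.v j := fun j hj => by
    induction j with
    | zero => rw [pow_zero, h.ap_one, Nat.cast_zero]
    | succ j ih =>
      have h4 : (j : ZMod n) ≠ -1 := fun e => absurd (Nat.le_of_dvd j.succ_pos ((ZMod.natCast_eq_zero_iff _ _).1 (by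
        rw [Nat.cast_succ, e, neg_add_cancel]))) (not_le.2 hj)
      rw [pow_succ', h.ap_mul, ih (by omega), f.ap_mo, show c j = 1 from if_neg h4, one_smul, Nat.cast_succ]
      rfl
  refine h2.eq (by rw [← pow_succ, pow_succ']) (sc_comm _ _) ?_
  obtain ⟨j, hj⟩ : ∃ j, n = j + 1 := ⟨n - 1, by have := NeZero.pos n; omega⟩
  have h4 : (j : ZMod n) = -1 := eq_neg_of_add_eq_zero_left (by rw [← Nat.cast_succ, Nat.succ_eq_add_one, ← hj, ZMod.natCast_self])
  rw [show f.mo σ c ^ n = f.mo σ c * f.mo σ c ^ j by rw [← pow_succ', ← hj], h.ap_mul, h3 j (by omega), f.ap_mo, h4,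
    show c (-1) = s from if_pos rfl, ap_sc, show σ (-1) = 0 from neg_add_cancel 1]

variable (k : KU h F q) (c : Ctx F H p) (hD : Fr D) (hI : Inv H D) (hm : ∀ e ∈ D, rk h e = m) (ht : D.card = t)
include k c hD hI hm ht

theorem gd_gen (h1 : 1 ≤ m * t)
    (hn : ((q + 1) ^ (m * t - 1)) ^ 3 * (t.factorial * oGU m q ^ t) ≤ oGU (m * t) q) : Gd F H := by
  have : NeZero (m * t) := ⟨by omega⟩
  have : NeZero t := ⟨by rintro rfl; omega⟩
  have h2 := ht ▸ dim_eq k.u hD hm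
  obtain ⟨f⟩ := exists_fm k.u hD hm _ (by rw [ZMod.card, ht]) (fib_cast (t := t) rfl)
  obtain ⟨u, s, h3, h4, -, -⟩ := exists_cyc k.L rfl f
  refine f.gd k c hI h3 Finset.univ (fun _ _ => Finset.mem_univ _) (h4.cU_le k.u k.card u.1.1.2.1)
    (b := (q + 1) ^ (m * t - 1)) ?_ (by rwa [ZMod.card, h2])
  rw [Finset.card_univ, Fintype.card_perm, h2, ← mul_assoc]
  refine Nat.mul_lt_mul_of_pos_right ?_ (Nat.factorial_pos _)
  rw [add_mul, ← pow_succ, Nat.sub_add_cancel h1]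
  omega

theorem gd_exc [NeZero t] (h1 : 1 ≤ m) (X : Finset (Perm (ZMod t))) (hX : ∀ π : Perm (ZMod t), π ^ (m * t) = 1 → π ∈ X)
    {a r j ν A b : ℕ} (ha : 0 < a) (h2 : m * t * r = a + (q ^ 2 - 1) * j) (h3 : m * t < 2 * (ν + 1))
    (h4 : q ^ (m * t) * ((q + 1) ^ a * (q ^ 2 + 1) ^ ν) < (A + 1) * (q ^ a * (q ^ 2) ^ ν))
    (h5 : A * X.card < (b + 1) * ((q + 1) * t.factorial)) (hn : b ^ 3 * (t.factorial * oGU m q ^ t) ≤ oGU (m * t) q) :
    Gd F H := by
  classical
  have : NeZero (m * t) := ⟨Nat.mul_ne_zero (by omega) (NeZero.ne t)⟩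
  have h6 := ht ▸ dim_eq k.u hD hm
  obtain ⟨f⟩ := exists_fm k.u hD hm _ (by rw [ZMod.card, ht]) (fib_cast (t := t) rfl)
  obtain ⟨u, s, h7, h8, h9, h10⟩ := exists_cyc k.L rfl f
  have h11 := h8.cU_le_two k.u k.card u.1.1.2.1 (Polynomial.nthRoots a (s ^ r)).toFinset (fun l x hx h0 => by
    have e1 := ap_pow_eig hx (m * t)
    rw [h10, ap_sc] at e1
    have e2 : l ^ (m * t) = s := (smul_left_injective K h0 e1).symm
    have e3 : l ≠ 0 := by
      rintro rfl
      exact h9 (by rw [← e2, zero_pow (NeZero.ne _)])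
    rw [Multiset.mem_toFinset, Polynomial.mem_nthRoots ha, ← e2, ← pow_mul, h2, pow_add, pow_mul, ← k.card,
      FiniteField.pow_card_sub_one_eq_one l e3, one_pow, mul_one])
    ((Multiset.toFinset_card_le _).trans (Polynomial.card_nthRoots a _)) (ν := ν) (by rwa [h6])
  rw [h6] at h11
  exact f.gd k c hI h7 X (fun x hx => hX _ (f.pow_one hx h10))
    (Nat.le_of_lt_succ (Nat.lt_of_mul_lt_mul_right (h11.trans_lt h4))) (by rwa [ZMod.card]) (by rwa [ZMod.card, h6])

theorem gd_six (hq : q = 2) {T : Type} [Fintype T] [DecidableEq T] (hT : Fintype.card T = t) (β : Fin 3 × Bool → T)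
    (hβ : ∀ a, Nat.card {i // β i = a} = m) (ρ : Perm T) (hρ : ∀ i : Fin 3 × Bool, β (i.1 + 1, i.2) = ρ (β i))
    (hn : 41 ^ 3 * (t.factorial * oGU m 2 ^ t) ≤ oGU 6 2) : Gd F H := by
  subst hq
  obtain ⟨f⟩ := exists_fm k.u hD hm β (by rw [hT, ht]) hβ
  have h0 : ∀ x : K, x ^ 4 = x := fun x => by
    have := FiniteField.pow_card x
    rwa [k.card] at this
  have h1 : (2 : K) = 0 := by linear_combination h0 (-1)
  obtain ⟨ω, h2, h3⟩ : ∃ ω : K, ω * ω ^ 2 = 1 ∧ ω ≠ 1 := by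
    have : Nontrivial {x : K // x * x ^ 2 = 1} := Finite.one_lt_card_iff_nontrivial.1 (by
      rw [LieClassical.HermBasic.card_norm_eq_one k.card]
      norm_num)
    obtain ⟨x, hx⟩ := exists_ne (⟨1, by simp⟩ : {x : K // x * x ^ 2 = 1})
    exact ⟨x, x.2, fun e => hx (Subtype.ext e)⟩
  have h4 : ω ^ 2 + ω + 1 = 0 := (mul_eq_zero.1 (show (ω - 1) * _ = 0 by linear_combination h2)).resolve_left
    (sub_ne_zero.2 h3)
  let σ : Perm (Fin 3 × Bool) := (Equiv.addRight 1).prodCongr 1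
  let g : Bool → K := fun b => if b then ω else ω ^ 2
  let d : Fin 3 × Bool → K := fun i => if i.1 = 2 then g i.2 else 1
  have hd : ∀ i, d i * h.τ (d i) = 1 := fun i => by
    rw [tau_eq k.u k.card]
    simp only [d, g]
    split_ifs
    · exact h2
    · linear_combination (ω ^ 3 + 1) * h2
    · simp
  have h5 : ∀ i, h.ap (f.mo σ d ^ 3) (f.v i) = g i.2 • f.v i := by
    rintro ⟨i, b⟩
    rw [pow_three, h.ap_mul, h.ap_mul]
    simp only [f.ap_mo, map_smul, smul_smul]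
    fin_cases i <;> simp [σ, d]
  have h6 : Cv h (f.mo σ d) (f.v (0, true) + f.v (0, false)) := fun W h0 hW => by
    have h7 := hW _ (hW _ (hW _ h0))
    rw [← h.ap_mul, ← h.ap_mul, mul_assoc, ← pow_three, map_add, h5, h5] at h7
    have h8 : f.v (0, true) ∈ W := by
      have h9 := W.sub_mem h7 (W.smul_mem (ω ^ 2) h0)
      rw [smul_add, show g (0, false).2 = ω ^ 2 from rfl, add_sub_add_right_eq_sub, ← sub_smul] at h9
      refine (W.smul_mem_iff (sub_ne_zero.2 fun e : ω = ω ^ 2 => h3 ?_)).1 h9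
      linear_combination (-ω ^ 2) * e - (ω - 1) * h2
    have h9 : ∀ b, f.v (0, b) ∈ W := by
      rintro (_ | _)
      exacts [(W.add_mem_iff_right h8).1 h0, h8]
    refine f.top ?_
    rintro ⟨i, b⟩
    fin_cases i
    exacts [h9 b, f.next hd hW (h9 b), f.next hd hW (f.next hd hW (h9 b))]
  have h7 : f.mo σ d ^ 3 * f.mo σ d ^ 3 + f.mo σ d ^ 3 + 1 = 0 := f.ext fun i => by
    rw [h.ap_add, h.ap_add, h.ap_mul, h5, map_smul, h5, h.ap_one, smul_smul]
    nth_rewrite 3 [← one_smul K (f.v i)]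
    rw [← add_smul, ← add_smul, show g i.2 * g i.2 + g i.2 + 1 = 0 by
      simp only [g]
      split_ifs
      · linear_combination h4
      · linear_combination h4 + h0 ω, zero_smul]
    rfl
  have h8 := h6.cU_le_two k.u k.card (f.mo_uni σ hd) ∅ (fun l x hx h9 => by
    have e1 := congrArg (h.ap · x) h7
    have e2 := ap_pow_eig hx 3
    simp only [h.ap_add, h.ap_mul, e2, map_smul, h.ap_one, smul_smul] at e1
    nth_rewrite 3 [← one_smul K x] at e1
    rw [← add_smul, ← add_smul, show l ^ 3 * l ^ 3 + l ^ 3 + 1 = 1 by linear_combination l ^ 2 * h0 l + l ^ 3 * h1,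
      one_smul] at e1
    exact absurd e1 h9) (a := 0) (ν := 3) le_rfl (by rw [f.dim]; decide)
  rw [f.dim, show Fintype.card (Fin 3 × Bool) = 6 from rfl] at h8
  refine f.gd k c hI (u := ⟨(f.mi k.L σ hd, ρ), f.mo_e hρ _⟩) ((f.det_mo σ d).trans ?_) Finset.univ
    (fun _ _ => Finset.mem_univ _) (a := 125) (b := 41) (by change cU (f.mo σ d) ≤ _; omega) ?_ (by rwa [hT, f.dim])
  · rw [show Perm.sign σ = 1 by decide, Fintype.prod_prod_type]
    simp [d, g, h2]
  · rw [Finset.card_univ, Fintype.card_perm]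
    have := Nat.factorial_pos (Fintype.card T)
    omega

omit k c hD hI hm ht in
/-- **imprimitive subgroups of the unitary groups** -/
theorem _root_.Cfsg.Agent.N2C.frU : OnU 5 pFr := by
  rintro K V _ _ _ _ _ h F q H p k h5 c ⟨-, -, D, hD, hI, htr⟩
  have : Nontrivial V := Module.nontrivial_of_finrank_pos (R := K) (by omega)
  obtain ⟨e, he⟩ := Finset.card_pos.1 (show 0 < D.card by have := hD.two; omega)
  obtain ⟨m, hm⟩ : ∃ m, ∀ e ∈ D, rk h e = m := ⟨rk h e, fun e' he' => by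
    obtain ⟨γ, hγ, rfl⟩ := htr e he e' he'
    exact rk_aut (c.le_SAut hγ) e⟩
  obtain ⟨t, ht⟩ : ∃ t, D.card = t := ⟨_, rfl⟩
  rw [dim_eq k.u hD hm, ht] at h5
  by_cases hx : Exc q m t
  swap
  · exact gd_gen k c hD hI hm ht (by omega) (num_gen (LieClassical.HermBasic.two_le k.card)
      (Nat.pos_of_ne_zero (by rintro rfl; omega)) (ht ▸ hD.two) h5 hx)
  have u1 : ∀ (n : ℕ) [NeZero n], (Finset.univ : Finset (Perm (ZMod n))).card = n.factorial := fun n _ => by
    rw [Finset.card_univ, Fintype.card_perm, ZMod.card]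
  rcases hx with ⟨rfl, ⟨rfl, rfl⟩ | ⟨rfl, rfl⟩ | ⟨rfl, rfl⟩ | ⟨rfl, rfl⟩ | ⟨rfl, rfl⟩ | ⟨rfl, rfl⟩⟩ |
    ⟨rfl, ⟨rfl, rfl⟩ | ⟨rfl, rfl⟩⟩ | ⟨rfl, rfl, rfl⟩
  · exact gd_exc k c hD hI hm ht le_rfl (Finset.univ.filter fun π => π ^ 5 = 1) (fun π hπ => by simpa using hπ)
      (a := 2) (r := 1) (j := 1) (ν := 2) (A := 112) (b := 7) two_pos rfl (by norm_num) (by norm_num) (by decide +kernel)
      (by decide +kernel)
  · exact gd_six k c hD hI hm ht rfl rfl id (fun a => by simp) ((Equiv.addRight 1).prodCongr 1) (fun _ => rfl)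
      (by decide +kernel)
  · exact gd_six k c hD hI hm ht rfl rfl Prod.fst (fun a => by rw [Nat.card_eq_fintype_card]; revert a; decide)
      (Equiv.addRight 1) (fun _ => rfl) (by decide +kernel)
  · exact gd_six k c hD hI hm ht rfl rfl Prod.snd (fun a => by rw [Nat.card_eq_fintype_card]; revert a; decide)
      1 (fun _ => rfl) (by decide +kernel)
  · exact gd_exc k c hD hI hm ht le_rfl Finset.univ (fun _ _ => Finset.mem_univ _) (a := 1) (r := 1) (j := 2) (ν := 3)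
      (A := 375) (b := 125) one_pos rfl (by norm_num) (by norm_num) (by rw [u1]; decide +kernel) (by decide +kernel)
  · exact gd_exc k c hD hI hm ht (by norm_num) Finset.univ (fun _ _ => Finset.mem_univ _) (a := 2) (r := 1) (j := 2)
      (ν := 4) (A := 1406) (b := 468) two_pos rfl (by norm_num) (by norm_num) (by rw [u1]; decide +kernel)
      (by decide +kernel)
  · exact gd_exc k c hD hI hm ht le_rfl Finset.univ (fun _ _ => Finset.mem_univ _) (a := 2) (r := 2) (j := 1) (ν := 2)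
      (A := 533) (b := 133) two_pos rfl (by norm_num) (by norm_num) (by rw [u1]; decide +kernel) (by decide +kernel)
  · exact gd_exc k c hD hI hm ht (by norm_num) Finset.univ (fun _ _ => Finset.mem_univ _) (a := 2) (r := 3) (j := 2)
      (ν := 3) (A := 1777) (b := 444) two_pos rfl (by norm_num) (by norm_num) (by rw [u1]; decide +kernel)
      (by decide +kernel)
  · exact gd_exc k c hD hI hm ht (by norm_num) Finset.univ (fun _ _ => Finset.mem_univ _) (a := 3) (r := 3) (j := 1)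
      (ν := 3) (A := 9596) (b := 1919) three_pos rfl (by norm_num) (by norm_num) (by rw [u1]; decide +kernel)
      (by decide +kernel)

end Cfsg.Agent.N2C.FrU
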