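import Cfsg.Agent.N2.Cy.Unit

/-!
# N2 (S3519): a sharper bound for the unitary elements of a finite commutative ring with involution (helper86)

`uu_le_two` : only the maximal ideals with a small residue field contribute the factor `(Q + 1) / Q`.
-/

set_option autoImplicit false

namespace Cfsg.Agent.N2C.FrU

open Cfsg.Agent.N2.Cy

universe u

theorem card_le_sk_sq {R : Type u} [CommRing R] [Finite R] {σ : R →+* R} {I : Ideal R} (hσ : ∀ x, σ (σ x) = x)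
    (hI : ∀ x ∈ I, σ x ∈ I) {δ : R} (hδ : σ δ = -δ) (hu : IsUnit δ) : Nat.card I ≤ sk σ I * sk σ I := by
  let φ : I →+ R := (AddMonoidHom.id R - σ.toAddMonoidHom).comp I.toAddSubgroup.subtype
  rw [AddSubgroup.card_eq_card_quotient_mul_card_addSubgroup φ.ker,
    Nat.card_congr (QuotientAddGroup.quotientKerEquivRange φ).toEquiv]
  refine Nat.mul_le_mul (Nat.card_le_card_of_injective (fun x => ⟨x.1, ?_⟩) fun _ _ e => Subtype.ext (Subtype.mk.inj e))
    (Nat.card_le_card_of_injective (fun x => ⟨δ * x.1.1, I.mul_mem_left _ x.1.2, ?_⟩) fun a b e => ?_)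
  · obtain ⟨_, x, rfl⟩ := x
    exact ⟨I.sub_mem x.2 (hI _ x.2), show σ (x - σ x) = -(x - σ x) by rw [map_sub, hσ, neg_sub]⟩
  · have h2 : x.1.1 - σ x.1.1 = 0 := x.2
    rw [map_mul, hδ, ← sub_eq_zero.1 h2, neg_mul]
  · exact Subtype.ext (Subtype.ext (hu.mul_left_cancel (congrArg Subtype.val e)))

theorem uu_le_two_aux {ι : Type*} (n : ℕ) : ∀ (R : Type u) [CommRing R] [Finite R] (σ : R →+* R) (c δ : R) (E : ι → R)
    (T : Finset (Ideal R)) (a ν : ℕ), Nat.card R = n → (∀ x, σ (σ x) = x) → c + σ c = 1 → σ δ = -δ → IsUnit δ →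
    (∀ θ : R, θ = c * δ → IsUnit (θ - σ θ)) → (∀ i, σ (E i) = E i) → (∀ i j, i ≠ j → IsUnit (E i - E j)) →
    (∀ M : Ideal R, M.IsMaximal → Nat.card (R ⧸ M) < Nat.card ι ^ 4 → M ∈ T) → T.card ≤ a →
    sk σ ⊤ < (Nat.card ι ^ 2) ^ (ν + 1) →
    uu σ * (Nat.card ι ^ a * (Nat.card ι ^ 2) ^ ν) ≤ sk σ ⊤ * ((Nat.card ι + 1) ^ a * (Nat.card ι ^ 2 + 1) ^ ν) := by
  classical
  induction n using Nat.strong_induction_on with
  | _ n ih =>
  intro R _ _ σ c δ E T a ν hn hσ hc hδ hδu hθ hE hu hT ha hν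
  generalize hQ : Nat.card ι = Q at ih hν hT ⊢
  rcases subsingleton_or_nontrivial R with hR | hR
  · have h1 : uu σ ≤ 1 := Finite.card_le_one_iff_subsingleton.2 inferInstance
    exact Nat.mul_le_mul (h1.trans (sk_pos σ ⊤))
      (Nat.mul_le_mul (Nat.pow_le_pow_left (Nat.le_succ Q) a) (Nat.pow_le_pow_left (Nat.le_succ _) ν))
  have : Finite (Ideal R) := Finite.of_injective _ SetLike.coe_injective
  obtain ⟨I, ⟨hI0, hI⟩, hmin⟩ := exists_minimal_of_wellFoundedLT (fun J : Ideal R => J ≠ ⊥ ∧ ∀ x ∈ J, σ x ∈ J)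
    ⟨⊤, top_ne_bot, fun _ _ => trivial⟩
  have := fin_quot I
  have hlt : Nat.card (R ⧸ I) < n := by
    have h1 := AddSubgroup.card_eq_card_quotient_mul_card_addSubgroup I.toAddSubgroup
    have h2 : 1 < Nat.card I.toAddSubgroup := Finite.one_lt_card_iff_nontrivial.2 (Submodule.nontrivial_iff_ne_bot.2 hI0)
    have h3 : 0 < Nat.card (R ⧸ I) := Nat.card_pos
    rw [← hn, h1]
    exact lt_mul_of_one_lt_right h3 h2
  have step : ∀ (T' : Finset (Ideal R)) (a' ν' : ℕ), (∀ M : Ideal R, M.IsMaximal → Nat.card (R ⧸ M) < Q ^ 4 → I ≤ M → M ∈ T') →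
      T'.card ≤ a' → sk (qs σ I hI) ⊤ < (Q ^ 2) ^ (ν' + 1) →
      uu (qs σ I hI) * (Q ^ a' * (Q ^ 2) ^ ν') ≤ sk (qs σ I hI) ⊤ * ((Q + 1) ^ a' * (Q ^ 2 + 1) ^ ν') := by
    intro T' a' ν' hT' ha' h1
    refine ih _ hlt (R ⧸ I) (qs σ I hI) (Ideal.Quotient.mk I c) (Ideal.Quotient.mk I δ) (fun i => Ideal.Quotient.mk I (E i))
      (T'.image (Ideal.map (Ideal.Quotient.mk I))) a' ν' rfl (fun x => ?_) (by rw [qs_mk, ← map_add, hc, map_one])
      (by rw [qs_mk, hδ, map_neg]) (hδu.map _) (fun θ e => by rw [e, ← map_mul, qs_mk, ← map_sub]; exact (hθ _ rfl).map _)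
      (fun i => by rw [qs_mk, hE]) (fun i j hij => by rw [← map_sub]; exact (hu i j hij).map _) (fun M hM hM' => ?_)
      (Finset.card_image_le.trans ha') h1
    · obtain ⟨x, rfl⟩ := Ideal.Quotient.mk_surjective x
      rw [qs_mk, qs_mk, hσ]
    · refine Finset.mem_image.2 ⟨M.comap (Ideal.Quotient.mk I), hT' _
        (Ideal.comap_isMaximal_of_surjective _ Ideal.Quotient.mk_surjective) (lt_of_le_of_lt ?_ hM') fun x hx => ?_,
        Ideal.map_comap_of_surjective _ Ideal.Quotient.mk_surjective M⟩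
      · have := fin_quot M
        exact Nat.card_le_card_of_injective _ (Ideal.quotientMap_injective (f := Ideal.Quotient.mk I) (I := M))
      · rw [Ideal.mem_comap, Ideal.Quotient.eq_zero_iff_mem.2 hx]
        exact M.zero_mem
  have k1 := uu_le_mul hσ hI
  have k2 := sk_mul_le hσ hc hI
  have k3 := sk_pos σ I
  have k4 : sk (qs σ I hI) ⊤ ≤ sk σ ⊤ := (Nat.le_mul_of_pos_left _ k3).trans k2
  by_cases h0 : ∀ x ∈ I, ∀ y ∈ I, x * y = 0
  · have h1 := step T a ν (fun M h1 h2 _ => hT M h1 h2) ha (k4.trans_lt hν)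
    calc _ ≤ sk σ I * (uu (qs σ I hI) * (Q ^ a * (Q ^ 2) ^ ν)) := by
          rw [← mul_assoc (sk σ I)]
          exact Nat.mul_le_mul_right _ (k1.trans (Nat.mul_le_mul_right _ (uk_le_nil hI h0)))
      _ ≤ sk σ I * (sk (qs σ I hI) ⊤ * ((Q + 1) ^ a * (Q ^ 2 + 1) ^ ν)) := Nat.mul_le_mul_left _ h1
      _ ≤ _ := by
          rw [← mul_assoc]
          exact Nat.mul_le_mul_right _ k2
  have hII : IsIdempotentElem I := by
    refine le_antisymm Ideal.mul_le_right (hmin ⟨fun h1 => h0 fun x hx y hy => ?_, fun x hx => ?_⟩ Ideal.mul_le_right)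
    · have h2 := Ideal.mul_mem_mul hx hy
      rwa [h1] at h2
    · refine Submodule.mul_induction_on hx (fun a ha b hb => ?_) fun a b ha hb => ?_
      · rw [map_mul]
        exact Ideal.mul_mem_mul (hI a ha) (hI b hb)
      · rw [map_add]
        exact add_mem ha hb
  obtain ⟨e, he, hIe⟩ := (Ideal.isIdempotentElem_iff_of_fg I (IsNoetherian.noetherian I)).1 hII
  have hm : Mi σ I e := ⟨hσ, hI, hIe ▸ Submodule.mem_span_singleton_self e, fun x hx => by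
    obtain ⟨a, rfl⟩ := Ideal.mem_span_singleton'.1 (hIe ▸ hx)
    rw [mul_assoc, he.eq], fun J h1 h2 h3 => hmin ⟨h1, h2⟩ h3⟩
  have he0 : e ≠ 0 := fun h1 => hI0 (by rw [hIe, h1]; simp)
  have hy : c * δ * e ∈ I := I.mul_mem_left _ hm.mem
  have hn' : σ (c * δ * e) ≠ c * δ * e := fun k => he0 ((hθ _ rfl).mul_right_eq_zero.1 (by
    rw [map_mul, hm.fix] at k
    rw [sub_mul, k, sub_self]))
  have k5 := k1.trans (Nat.mul_le_mul_right _ (hm.uk_le hy hn'))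
  by_cases hs : sk σ I < Q ^ 2
  · have h2 : Q ≤ sk σ I := hQ ▸ le_sk hE hu (I.sub_mem hy (hI _ hy)) (sub_ne_zero.2 hn'.symm) (by rw [map_sub, hσ, neg_sub])
    obtain ⟨M, hM, hM1⟩ := Ideal.exists_le_maximal (Ideal.span {1 - e}) fun k => by
      obtain ⟨z, hz⟩ := Ideal.mem_span_singleton'.1 (k ▸ trivial : (1 : R) ∈ Ideal.span {1 - e})
      exact he0 (by linear_combination (-e) * hz - z * he.eq)
    have hM2 : 1 - e ∈ M := hM1 (Ideal.mem_span_singleton_self _)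
    have hMT : M ∈ T := by
      refine hT M hM ((Nat.card_le_card_of_surjective (fun x : I => Ideal.Quotient.mk M x) fun z => ?_).trans_lt
        ((card_le_sk_sq hσ hI hδ hδu).trans_lt (by nlinarith)))
      obtain ⟨z, rfl⟩ := Ideal.Quotient.mk_surjective z
      refine ⟨⟨z * e, I.mul_mem_left _ hm.mem⟩, Ideal.Quotient.eq.2 ?_⟩
      have h3 := M.mul_mem_left (-z) hM2
      rwa [show -z * (1 - e) = z * e - z by ring] at h3
    have h3 := Finset.card_erase_add_one hMT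
    obtain _ | a := a
    · omega
    have h1 := step (T.erase M) a ν (fun M' h1 h2 h3 => Finset.mem_erase.2 ⟨fun h4 => hM.ne_top ((Ideal.eq_top_iff_one _).2 (by
      have h5 := M.add_mem hM2 (h4 ▸ h3 hm.mem)
      rwa [sub_add_cancel] at h5)), hT M' h1 h2⟩) (by omega) (k4.trans_lt hν)
    calc _ ≤ (sk σ I + 1) * uu (qs σ I hI) * (Q ^ (a + 1) * (Q ^ 2) ^ ν) := Nat.mul_le_mul_right _ k5
      _ = (sk σ I + 1) * Q * (uu (qs σ I hI) * (Q ^ a * (Q ^ 2) ^ ν)) := by ring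
      _ ≤ sk σ I * (Q + 1) * (sk (qs σ I hI) ⊤ * ((Q + 1) ^ a * (Q ^ 2 + 1) ^ ν)) := Nat.mul_le_mul (by nlinarith) h1
      _ = sk σ I * sk (qs σ I hI) ⊤ * ((Q + 1) ^ (a + 1) * (Q ^ 2 + 1) ^ ν) := by ring
      _ ≤ _ := Nat.mul_le_mul_right _ k2
  · have h2 := not_lt.1 hs
    have h3 : Q ^ 2 * sk (qs σ I hI) ⊤ < (Q ^ 2) ^ (ν + 1) := ((Nat.mul_le_mul_right _ h2).trans k2).trans_lt hν
    rw [pow_succ' (Q ^ 2)] at h3
    have h4 := Nat.lt_of_mul_lt_mul_left h3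
    obtain _ | ν := ν
    · have := sk_pos (qs σ I hI) ⊤
      rw [pow_zero] at h4
      omega
    have h1 := step T a ν (fun M h1 h2 _ => hT M h1 h2) ha h4
    calc _ ≤ (sk σ I + 1) * uu (qs σ I hI) * (Q ^ a * (Q ^ 2) ^ (ν + 1)) := Nat.mul_le_mul_right _ k5
      _ = (sk σ I + 1) * Q ^ 2 * (uu (qs σ I hI) * (Q ^ a * (Q ^ 2) ^ ν)) := by ring
      _ ≤ sk σ I * (Q ^ 2 + 1) * (sk (qs σ I hI) ⊤ * ((Q + 1) ^ a * (Q ^ 2 + 1) ^ ν)) := Nat.mul_le_mul (by nlinarith) h1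
      _ = sk σ I * sk (qs σ I hI) ⊤ * ((Q + 1) ^ a * (Q ^ 2 + 1) ^ (ν + 1)) := by ring
      _ ≤ _ := Nat.mul_le_mul_right _ k2

/-- **the sharper unit lemma**: `T` contains the maximal ideals with a residue field of order less than `Q ^ 4` -/
theorem uu_le_two {R : Type u} [CommRing R] [Finite R] {σ : R →+* R} {ι : Type*} {c δ : R} {E : ι → R}
    {T : Finset (Ideal R)} {a ν : ℕ} (hσ : ∀ x, σ (σ x) = x) (hc : c + σ c = 1) (hδ : σ δ = -δ) (hδu : IsUnit δ)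
    (hE : ∀ i, σ (E i) = E i) (hu : ∀ i j, i ≠ j → IsUnit (E i - E j))
    (hT : ∀ M : Ideal R, M.IsMaximal → Nat.card (R ⧸ M) < Nat.card ι ^ 4 → M ∈ T) (ha : T.card ≤ a)
    (hν : sk σ ⊤ < (Nat.card ι ^ 2) ^ (ν + 1)) :
    uu σ * (Nat.card ι ^ a * (Nat.card ι ^ 2) ^ ν) ≤ sk σ ⊤ * ((Nat.card ι + 1) ^ a * (Nat.card ι ^ 2 + 1) ^ ν) :=
  uu_le_two_aux _ R σ c δ E T a ν rfl hσ hc hδ hδu (fun θ e => by
    rw [e, map_mul, hδ, mul_neg, sub_neg_eq_add, ← add_mul, hc, one_mul]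
    exact hδu) hE hu hT ha hν

end Cfsg.Agent.N2C.FrU
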