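import Cfsg.Agent.N2.Cl.FrU.Fm
import Cfsg.Agent.N2.Cl.FrU.Unit

/-!
# N2 (S3519), unitary groups: centralisers of isometries with a cyclic vector (helper86)

`Cv h u v₀` : `v₀` is a cyclic vector;  `Cv.cU_le` (crude), `Cv.cU_le_two` (with the eigenvalues).
-/

set_option autoImplicit false
set_option linter.unusedSectionVars false

namespace Cfsg.Agent.N2C.FrU

open Cfsg Cfsg.Agent.DS.Cl Cfsg.Agent.DS.Cl.Fwd Module
open Cfsg.Agent.SB.Cl (IsU)
open Cfsg.Agent.N2C.Cyc
open Cfsg.Agent.N2C.Size (exists_half_U star_scal scal_add scal_mul scal_one)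

variable {K V : Type} [Field K] [Fintype K] [AddCommGroup V] [Module K V] [Finite V] {h : HF K V} {q : ℕ}

/-- the scalars -/
def sc (h : HF K V) : K →+* h.EB where
  toFun c := h.eb (c • 1)
  map_one' := scal_one h
  map_mul' c d := (scal_mul h c d).symm
  map_zero' := h.ap_ext fun v => zero_smul K v
  map_add' c d := (scal_add h c d).symm

theorem ap_sc (c : K) (x : V) : h.ap (sc h c) x = c • x := rfl

theorem sc_comm (c : K) (x : h.EB) : sc h c * x = x * sc h c := (Subring.mem_center_iff.1 (h.smul_mem_center c) x).symm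

theorem star_sc (c : K) : star (sc h c) = sc h (h.τ c) := star_scal h c

theorem sc_unit {c : K} (hc : c ≠ 0) : IsUnit (sc h c) := (Ne.isUnit hc).map _

theorem ap_pow_eig {u : h.EB} {x : V} {c : K} (hx : h.ap u x = c • x) (k : ℕ) : h.ap (u ^ k) x = c ^ k • x := by
  induction k with
  | zero => rw [pow_zero, pow_zero, one_smul, h.ap_one]
  | succ k ih => rw [pow_succ', h.ap_mul, ih, map_smul, hx, smul_smul, pow_succ]

/-- `v₀` is a cyclic vector of `u` -/
def Cv (h : HF K V) (u : h.EB) (v₀ : V) : Prop := ∀ W : Submodule K V, v₀ ∈ W → (∀ x ∈ W, h.ap u x ∈ W) → W = ⊤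

namespace Cv

variable {u : h.EB} {v₀ : V} (c : Cv h u v₀)
include c

theorem eq {x y : h.EB} (hx : x * u = u * x) (hy : y * u = u * y) (e : h.ap x v₀ = h.ap y v₀) : x = y :=
  h.ap_ext fun v => (c (LinearMap.eqLocus (h.ap x) (h.ap y)) e fun w (hw : h.ap x w = h.ap y w) =>
    show h.ap x (h.ap u w) = h.ap y (h.ap u w) by
      rw [← h.ap_mul, hx, h.ap_mul, hw, ← h.ap_mul, ← hy, h.ap_mul]).ge (Submodule.mem_top (x := v))

theorem ind (P : h.EB → Prop) (h0 : ∀ x, P x → x * u = u * x) (h1 : P 1) (ha : ∀ x y, P x → P y → P (x + y))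
    (hs : ∀ a x, P x → P (sc h a * x)) (hu : ∀ x, P x → P (u * x)) {y : h.EB} (hy : y * u = u * y) : P y := by
  let W : Submodule K V :=
    { carrier := {w | ∃ x, P x ∧ h.ap x v₀ = w}
      add_mem' := by
        rintro _ _ ⟨x, hx, rfl⟩ ⟨x', hx', rfl⟩
        exact ⟨_, ha _ _ hx hx', rfl⟩
      zero_mem' := ⟨_, hs 0 1 h1, zero_smul K v₀⟩
      smul_mem' := by
        rintro a _ ⟨x, hx, rfl⟩
        exact ⟨_, hs a x hx, rfl⟩ }
  obtain ⟨x, hx, e⟩ := (c W ⟨1, h1, rfl⟩ (by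
    rintro _ ⟨x, hx, rfl⟩
    exact ⟨_, hu x hx, rfl⟩)).ge (Submodule.mem_top (x := h.ap y v₀))
  exact c.eq (h0 x hx) hy e ▸ hx

theorem isCyc : IsCyc u := fun x y hx hy =>
  (c.ind (fun x => x * u = u * x ∧ x * y = y * x) (fun _ k => k.1) ⟨by simp, by simp⟩
    (fun a b ha hb => ⟨by rw [add_mul, mul_add, ha.1, hb.1], by rw [add_mul, mul_add, ha.2, hb.2]⟩)
    (fun a b hb => ⟨by rw [mul_assoc, hb.1, ← mul_assoc, sc_comm, mul_assoc], by
      rw [mul_assoc, hb.2, ← mul_assoc, sc_comm, mul_assoc]⟩)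
    (fun b hb => ⟨by rw [mul_assoc, hb.1], by rw [mul_assoc, hb.2, ← mul_assoc, ← hy, mul_assoc]⟩) hx).2

theorem cA_le (hq : Fintype.card K = q ^ 2) : cA u ≤ (q ^ finrank K V) ^ 2 := by
  have : Module.Finite K V := Module.Finite.of_finite
  refine (Nat.card_le_card_of_injective (fun x : {x : h.EB // x * u = u * x} => h.ap x.1 v₀)
    fun x y e => Subtype.ext (c.eq x.2 y.2 e)).trans (le_of_eq ?_)
  rw [Module.natCard_eq_pow_finrank (K := K), Nat.card_eq_fintype_card, hq, ← pow_mul, ← pow_mul, mul_comm]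

theorem cU_le (hU : IsU h) (hq : Fintype.card K = q ^ 2) (hu : u * star u = 1) : cU u ≤ (q + 1) ^ finrank K V := by
  obtain ⟨a, ha⟩ := exists_half_U hU
  obtain ⟨θ, hθ⟩ := hU.2
  have h1 := LieClassical.HermBasic.card_fixed hq
  have h2 := cU_le_unit hu c.isCyc (sc_comm a u) (by rw [star_sc, ← map_add, ha, map_one]) (sc_comm θ u)
    (by rw [star_sc, ← map_sub]; exact sc_unit (sub_ne_zero.2 hθ.symm)) (fun x : {x : K // x ^ q = x} => sc h x.1)
    (fun x => sc_comm _ u) (fun x => by rw [star_sc, tau_eq hU hq, x.2])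
    (fun x y k => by rw [← map_sub]; exact sc_unit (sub_ne_zero.2 fun e => k (Subtype.ext e)))
    (by rw [h1]; exact LieClassical.HermBasic.two_le hq) (ν := finrank K V) (by rw [h1]; exact c.cA_le hq)
  rwa [h1] at h2

/-- `Λ` contains the eigenvalues -/
theorem cU_le_two (hU : IsU h) (hq : Fintype.card K = q ^ 2) (hu : u * star u = 1) (Λ : Finset K)
    (hΛ : ∀ (a : K) x, h.ap u x = a • x → x ≠ 0 → a ∈ Λ) {a ν : ℕ} (ha : Λ.card ≤ a) (hν : finrank K V < 2 * (ν + 1)) :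
    cU u * (q ^ a * (q ^ 2) ^ ν) ≤ q ^ finrank K V * ((q + 1) ^ a * (q ^ 2 + 1) ^ ν) := by
  classical
  have : Module.Finite K V := Module.Finite.of_finite
  have hc := c.isCyc
  obtain ⟨d, hd⟩ := exists_half_U hU
  obtain ⟨θ, hθ⟩ := hU.2
  have h1 := LieClassical.HermBasic.card_fixed hq
  let k : K →+* Cn hc := (sc h).codRestrict (Subring.centralizer ({u} : Set h.EB)) fun a => by
    rintro _ rfl
    exact (sc_comm a _).symm
  have hk : ∀ a, Cn.sg hc hu (k a) = k (h.τ a) := fun a => Cn.val_inj (star_sc a)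
  let w : Cn hc := Cn.mk hc u rfl
  have h2 : cS u ≤ q ^ finrank K V := (Nat.pow_le_pow_iff_left two_ne_zero).1
    ((cS_sq_le_unit hu hc (sc_comm d u) (by rw [star_sc, ← map_add, hd, map_one]) (sc_comm (θ - h.τ θ) u)
      (by rw [star_sc, map_sub, h.τ_τ, ← map_neg, neg_sub]) (sc_unit (sub_ne_zero.2 hθ.symm))).trans (c.cA_le hq))
  rw [cS_eq hc hu] at h2
  have h3 := uu_le_two (σ := Cn.sg hc hu) (c := k d) (δ := k (θ - h.τ θ)) (E := fun x : {x : K // x ^ q = x} => k x.1)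
    (T := Λ.image fun a => Ideal.span {w - k a}) (a := a) (ν := ν) (Cn.sg_sg hc hu) (by rw [hk, ← map_add, hd, map_one])
    (by rw [hk, map_sub, h.τ_τ, ← map_neg, neg_sub]) ((Ne.isUnit (sub_ne_zero.2 hθ.symm)).map _)
    (fun x => by rw [hk, tau_eq hU hq, x.2])
    (fun x y e => by rw [← map_sub]; exact (Ne.isUnit (sub_ne_zero.2 fun e' => e (Subtype.ext e'))).map _)
    (fun M hM hM' => ?_) (Finset.card_image_le.trans ha) (h2.trans_lt (by
      rw [h1, ← pow_mul]
      exact Nat.pow_lt_pow_right (LieClassical.HermBasic.two_le hq) hν))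
  · rw [h1, ← cU_eq hc hu] at h3
    exact h3.trans (Nat.mul_le_mul_right _ h2)
  have h4 : ∀ a, k a ∈ M → a = 0 := fun a k1 => by
    by_contra k2
    exact hM.ne_top (M.eq_top_of_isUnit_mem k1 ((Ne.isUnit k2).map _))
  obtain ⟨l, hl⟩ : ∃ l, w - k l ∈ M := by
    by_contra k1
    have := N2.Cy.fin_quot M
    have h5 := Nat.card_le_card_of_injective (fun x : K × K => Ideal.Quotient.mk M (k x.1 + k x.2 * w)) (by
      rintro ⟨x, y⟩ ⟨x', y'⟩ e
      have e1 : k x + k y * w - (k x' + k y' * w) ∈ M := Ideal.Quotient.eq.1 e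
      obtain rfl : y = y' := by
        by_contra k2
        refine k1 ⟨(y - y')⁻¹ * (x' - x), ?_⟩
        have e2 := M.mul_mem_left (k (y - y')⁻¹) e1
        have e3 : k (y - y')⁻¹ * k (y - y') = 1 := by rw [← map_mul, inv_mul_cancel₀ (sub_ne_zero.2 k2), map_one]
        rw [map_sub] at e3
        rwa [show k (y - y')⁻¹ * (k x + k y * w - (k x' + k y' * w)) = w - k ((y - y')⁻¹ * (x' - x)) by
          rw [map_mul, map_sub]; linear_combination w * e3] at e2
      rw [add_sub_add_right_eq_sub, ← map_sub] at e1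
      rw [sub_eq_zero.1 (h4 _ e1)])
    rw [Nat.card_prod, Nat.card_eq_fintype_card, hq, ← pow_add] at h5
    rw [h1] at hM'
    exact absurd h5 (not_le.2 hM')
  refine Finset.mem_image.2 ⟨l, ?_, (N2.Cy.eq_span (fun x => ?_) hM hl).symm⟩
  · by_contra k1
    refine hM.ne_top (M.eq_top_of_isUnit_mem hl (Cn.isUnit ((LinearMap.isUnit_iff_ker_eq_bot (h.ap (u - sc h l))).2
      (LinearMap.ker_eq_bot'.2 fun x hx => ?_))))
    by_contra k2
    exact k1 (hΛ l x (sub_eq_zero.1 hx) k2)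
  · obtain ⟨y, e, t, ht⟩ := c.ind (fun x => ∃ y : Cn hc, Cn.val y = x ∧ ∃ t, y - k t ∈ Ideal.span {w - k l})
      (by rintro _ ⟨y, rfl, -⟩; exact y.comm) ⟨1, rfl, 1, by simp⟩
      (by
        rintro _ _ ⟨y, rfl, t, ht⟩ ⟨y', rfl, t', ht'⟩
        exact ⟨y + y', rfl, t + t', by rw [map_add, add_sub_add_comm]; exact add_mem ht ht'⟩)
      (by
        rintro a _ ⟨y, rfl, t, ht⟩
        exact ⟨k a * y, rfl, a * t, by rw [map_mul, ← mul_sub]; exact Ideal.mul_mem_left _ _ ht⟩)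
      (by
        rintro _ ⟨y, rfl, t, ht⟩
        refine ⟨w * y, rfl, l * t, ?_⟩
        rw [show w * y - k (l * t) = w * (y - k t) + k t * (w - k l) by rw [map_mul]; ring]
        exact add_mem (Ideal.mul_mem_left _ _ ht) (Ideal.mul_mem_left _ _ (Ideal.mem_span_singleton_self _))) x.comm
    obtain rfl := Cn.val_inj e
    refine ⟨k t, ?_, ht⟩
    by_cases k1 : t = 0
    · exact Or.inl (by rw [k1, map_zero])
    · exact Or.inr ((Ne.isUnit k1).map _)

end Cv

end Cfsg.Agent.N2C.FrU
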