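import Cfsg.Agent.N2.Cl.Cyc.Cov
import Cfsg.Agent.N2.Cl.Cyc.Num
import Cfsg.Agent.N2.Cl.Size
import Cfsg.Agent.N2.Cl.FrSp.Sing
import Cfsg.Agent.SB.Idem.Fam
import Cfsg.Agent.LieClassical.HermBasic

/-!
# N2 (S3519), unitary groups, imprimitive subgroups: adapted orthonormal bases and the criterion (helper86)

`Fm h D β` : an orthonormal basis `v i`, `v i` in the block `e (β i)`;  `mo σ c` : monomial maps;
`Fm.gd` : the number of fixed cosets is computed in the full unitary group.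
-/

set_option autoImplicit false
set_option linter.unusedSectionVars false

namespace Cfsg.Agent.N2C.FrU

open Cfsg Cfsg.Agent.DS.Cl Cfsg.Agent.DS.Cl.Fwd Module Equiv
open Cfsg.Agent.SB.Cl (IsU rk)
open Cfsg.Agent.TH.Cl (KU)
open Cfsg.Agent.FP3 (Good fx)
open Cfsg.Agent.N2 (cn cc)
open Cfsg.Agent.N2C.Cyc (I0 oGU)
open Cfsg.Agent.N2C.Size (exists_half_U L_eq_U star_scal scal_add scal_mul scal_one)

variable {K V : Type} [Field K] [Fintype K] [AddCommGroup V] [Module K V] [Finite V] {h : HF K V} {F : FR h.EB} {q : ℕ}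

theorem tau_eq (hU : IsU h) (hq : Fintype.card K = q ^ 2) (x : K) : h.τ x = x ^ q := by
  obtain ⟨q', -, hq', k⟩ := H324.FC.exists_q (RingEquiv.ofRingHom h.τ h.τ (RingHom.ext h.τ_τ) (RingHom.ext h.τ_τ)) h.τ_τ
    hU.2
  rw [Nat.card_eq_fintype_card, hq] at hq'
  obtain rfl : q = q' := Nat.pow_left_injective two_ne_zero hq'
  exact k x

theorem uni_of_b {a : h.EB} (H : ∀ x y, h.b (h.ap a x) (h.ap a y) = h.b x y) : a * star a = 1 :=
  mul_eq_one_comm.1 (h.ap_ext fun y => h.ext_right fun x => by rw [h.ap_mul, h.b_star, H, h.ap_one])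

/-- the restriction of the form to a non-degenerate subspace -/
def rsf (h : HF K V) (W : Submodule K V) (nd : ∀ v : W, (∀ u : W, h.b u v = 0) → v = 0) : HF K W where
  τ := h.τ
  ε := h.ε
  b u v := h.b u v
  add_left _ _ _ := h.add_left _ _ _
  smul_left _ _ _ := h.smul_left _ _ _
  swap _ _ := h.swap _ _
  τ_τ := h.τ_τ
  nondeg := nd

theorem rk_aut [Nontrivial V] {γ : RingAut h.EB} (hγ : γ ∈ SAut h.EB) (e : h.EB) : rk h (γ e) = rk h e := by
  have : Module.Finite K V := Module.Finite.of_finite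
  obtain ⟨L⟩ := SB.Tor.exists_SL h hγ
  have h1 : Nat.card (LinearMap.range (h.ap e)) = Nat.card (LinearMap.range (h.ap (γ e))) :=
    Nat.card_congr (L.g.toEquiv.subtypeEquiv fun x => ⟨by
      rintro ⟨y, rfl⟩
      exact ⟨L.g y, L.conj e y⟩, by
      rintro ⟨y, hy⟩
      obtain ⟨y, rfl⟩ := L.g.surjective y
      exact ⟨y, L.g.injective ((L.conj e y).symm.trans hy)⟩⟩)
  rw [Module.natCard_eq_pow_finrank (K := K),
    Module.natCard_eq_pow_finrank (K := K) (V := LinearMap.range (h.ap (γ e)))] at h1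
  exact (Nat.pow_right_injective Finite.one_lt_card h1).symm

variable {ι T : Type} [Fintype ι] [DecidableEq ι] [Fintype T] [DecidableEq T]

/-- an orthonormal basis adapted to the frame `D` -/
structure Fm (h : HF K V) (D : Finset h.EB) (β : ι → T) (m : ℕ) where
  /-- the basis -/
  v : Basis ι K V
  /-- the blocks -/
  e : T → h.EB
  on : ∀ i j, h.b (v i) (v j) = if i = j then 1 else 0
  inj : Function.Injective e
  mem : ∀ a, a ∈ D ↔ ∃ t, e t = a
  ap : ∀ t i, h.ap (e t) (v i) = if β i = t then v i else 0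
  fr : Fr D
  rank : ∀ t, rk h (e t) = m
  fib : ∀ t, Nat.card {i // β i = t} = m

theorem exists_fm (hU : IsU h) {D : Finset h.EB} (hD : Fr D) {m : ℕ} (hm : ∀ e ∈ D, rk h e = m) (β : ι → T)
    (hT : Fintype.card T = D.card) (hβ : ∀ t, Nat.card {i // β i = t} = m) : Nonempty (Fm h D β m) := by
  have : Module.Finite K V := Module.Finite.of_finite
  let ε : T ≃ D := Fintype.equivOfCardEq (by rw [hT, Fintype.card_coe])
  choose w hw hw' using fun t : T => SB.Idem.block_u h hU (hD.idem _ (ε t).2) (hD.symm _ (ε t).2) (hm _ (ε t).2)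
  let φ : ∀ t, {i // β i = t} ≃ Fin m := fun t => Finite.equivFinOfCardEq (hβ t)
  let g : ι → Fin m := fun i => φ (β i) ⟨i, rfl⟩
  have hg : ∀ t i (k : β i = t), g i = φ t ⟨i, k⟩ := by
    rintro _ i rfl
    rfl
  let v : ι → V := fun i => w (β i) (g i)
  have h1 : ∀ i, h.ap (ε (β i)) (v i) = v i := fun i => (hw _).mem _ (g i).2
  have h2 : ∀ t i, h.ap (ε t) (v i) = if β i = t then v i else 0 := fun t i => by
    split_ifs with k
    · rw [← k, h1]
    · rw [← h1, ← h.ap_mul, hD.orth _ (ε t).2 _ (ε _).2 fun e => k (ε.injective (Subtype.ext e)).symm]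
      rfl
  have h3 : ∀ i j, h.b (v i) (v j) = if i = j then 1 else 0 := fun i j => by
    by_cases k : β j = β i
    · have e : v j = w (β i) (g j) := congrArg (w · (g j)) k
      rw [e, hw' _ _ (g i).2 _ (g j).2]
      refine if_congr ⟨fun e => ?_, fun e => by rw [e]⟩ rfl rfl
      have e1 := Fin.ext e
      rw [hg _ j k] at e1
      exact congrArg Subtype.val ((φ _).injective e1)
    · rw [if_neg fun e => k (by rw [e]), ← h1 i, SB.Idem.b_idem h (hD.symm _ (ε _).2), h2, if_neg k, h.zero_right]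
  have li : LinearIndependent K v := LinearIndependent.of_pairwise_dual_eq_zero_one v (fun i => h.lin (v i))
    (fun i j k => (h3 j i).trans (if_neg k.symm)) fun i => (h3 i i).trans (if_pos rfl)
  have sp : ⊤ ≤ Submodule.span K (Set.range v) := fun x _ => by
    have e : x = ∑ e ∈ D, h.ap e x := by
      have e1 := congrArg (fun a => h.ap a x) hD.sum
      exact e1.symm.trans (LinearMap.sum_apply _ _ _)
    rw [e]
    refine Submodule.sum_mem _ fun a ha => ?_
    obtain ⟨t, ht⟩ := ε.surjective ⟨a, ha⟩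
    obtain rfl : (ε t : h.EB) = a := congrArg Subtype.val ht
    refine Submodule.span_mono ?_ ((hw t).span.ge ⟨x, rfl⟩)
    rintro _ ⟨r, rfl⟩
    obtain ⟨⟨i, rfl⟩, rfl⟩ := (φ t).surjective r
    exact ⟨i, rfl⟩
  exact ⟨⟨Basis.mk li sp, fun t => ε t, by simpa using h3, fun s t e => ε.injective (Subtype.ext e),
    fun a => ⟨fun ha => ⟨ε.symm ⟨a, ha⟩, by simp⟩, by rintro ⟨t, rfl⟩; exact (ε t).2⟩, by simpa using h2, hD,
    fun t => hm _ (ε t).2, hβ⟩⟩

namespace Fm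

variable {D : Finset h.EB} {β : ι → T} {m : ℕ} (f : Fm h D β m)
include f

theorem ext {a a' : h.EB} (H : ∀ i, h.ap a (f.v i) = h.ap a' (f.v i)) : a = a' := f.v.ext (f₁ := h.ap a) (f₂ := h.ap a') H

theorem ext_b {x y : V} (H : ∀ i, h.b (f.v i) x = h.b (f.v i) y) : x = y :=
  h.ext_right fun u => LinearMap.congr_fun (f.v.ext (f₁ := h.lin x) (f₂ := h.lin y) H) u

theorem repr (x : V) (i : ι) : f.v.repr x i = h.b x (f.v i) :=
  LinearMap.congr_fun (f.v.ext (f₁ := f.v.coord i) (f₂ := h.lin (f.v i)) fun j => by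
    rw [Basis.coord_apply, Basis.repr_self, Finsupp.single_apply]
    exact (f.on j i).symm) x

theorem emem (t : T) : f.e t ∈ D := (f.mem _).2 ⟨t, rfl⟩

theorem det_norm (hU : IsU h) {a : h.EB} (ha : a * star a = 1) :
    LinearMap.det (h.ap a) * h.τ (LinearMap.det (h.ap a)) = 1 := by
  have h1 : LinearMap.toMatrix f.v f.v (h.ap (star a)) = (h.τ.mapMatrix (LinearMap.toMatrix f.v f.v (h.ap a))).transpose := by
    ext i j
    rw [Matrix.transpose_apply, RingHom.mapMatrix_apply, Matrix.map_apply, LinearMap.toMatrix_apply,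
      LinearMap.toMatrix_apply, f.repr, f.repr, h.star_b, h.swap, hU.1, one_mul]
  have h2 : LinearMap.det (h.ap (star a)) = h.τ (LinearMap.det (h.ap a)) := by
    rw [← LinearMap.det_toMatrix f.v, h1, Matrix.det_transpose, ← RingHom.map_det, LinearMap.det_toMatrix]
  rw [← h2, ← map_mul]
  exact (congrArg (fun x => LinearMap.det (h.ap x)) ha).trans (map_one _)

/-- monomial maps -/
noncomputable def mo (σ : Perm ι) (c : ι → K) : h.EB := h.eb (f.v.constr K fun i => c i • f.v (σ i))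

theorem ap_mo (σ : Perm ι) (c : ι → K) (i : ι) : h.ap (f.mo σ c) (f.v i) = c i • f.v (σ i) := f.v.constr_basis K _ i

theorem mo_uni (σ : Perm ι) {c : ι → K} (hc : ∀ i, c i * h.τ (c i) = 1) : f.mo σ c * star (f.mo σ c) = 1 :=
  mul_eq_one_comm.1 (f.ext fun j => f.ext_b fun i => by
    rw [h.ap_mul, h.b_star, f.ap_mo, f.ap_mo, h.smul_left, h.smul_right, f.on, h.ap_one, f.on]
    by_cases k : i = j
    · rw [if_pos k, if_pos (congrArg σ k), mul_one, k, hc]
    · rw [if_neg k, if_neg fun e => k (σ.injective e), mul_zero, mul_zero])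

theorem det_mo (σ : Perm ι) (c : ι → K) : LinearMap.det (h.ap (f.mo σ c)) = ((Perm.sign σ : ℤ) : K) * ∏ i, c i := by
  have h1 : LinearMap.toMatrix f.v f.v (h.ap (f.mo σ c)) = (Matrix.diagonal c).submatrix ⇑(σ⁻¹) id := by
    ext i j
    rw [LinearMap.toMatrix_apply, f.repr, f.ap_mo, h.smul_left, f.on, Matrix.submatrix_apply, Matrix.diagonal_apply, id]
    by_cases k : σ j = i
    · rw [if_pos k, if_pos (by rw [← k]; simp), mul_one, ← k]
      simp
    · rw [if_neg k, if_neg fun e => k (by rw [← e]; simp), mul_zero]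
  rw [← LinearMap.det_toMatrix f.v, h1, Matrix.det_permute, Matrix.det_diagonal, Perm.sign_inv]

theorem mo_e {σ : Perm ι} {ρ : Perm T} (hσ : ∀ i, β (σ i) = ρ (β i)) (c : ι → K) (t : T) :
    f.mo σ c * f.e t = f.e (ρ t) * f.mo σ c := f.ext fun i => by
  rw [h.ap_mul, h.ap_mul, f.ap_mo, map_smul, f.ap, f.ap, hσ]
  by_cases k : β i = t
  · rw [if_pos k, if_pos (congrArg ρ k), f.ap_mo]
  · rw [if_neg k, if_neg fun e => k (ρ.injective e), map_zero, smul_zero]

/-- the isometries which permute the blocks, with the permutation -/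
def PP (F : FR h.EB) : Subgroup (F.Iso × Perm T) where
  carrier := {x | ∀ t, ((x.1 : h.EBˣ) : h.EB) * f.e t = f.e (x.2 t) * (x.1 : h.EBˣ)}
  one_mem' t := (one_mul _).trans (mul_one _).symm
  mul_mem' {x y} hx hy t := by
    change ((x.1 : h.EBˣ) : h.EB) * (y.1 : h.EBˣ) * f.e t = f.e (x.2 (y.2 t)) * ((x.1 : h.EBˣ) * (y.1 : h.EBˣ))
    rw [mul_assoc, hy, ← mul_assoc, hx, mul_assoc]
  inv_mem' {x} hx t := by
    change (((x.1 : h.EBˣ)⁻¹ : h.EBˣ) : h.EB) * f.e t = f.e (x.2⁻¹ t) * ((x.1 : h.EBˣ)⁻¹ : h.EBˣ)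
    rw [Units.inv_mul_eq_iff_eq_mul, ← mul_assoc, hx, Units.mul_inv_cancel_right, ← Perm.mul_apply, mul_inv_cancel,
      Perm.one_apply]

/-- the stabiliser of the frame in the isometry group -/
noncomputable def BB (F : FR h.EB) : Subgroup F.Iso := (f.PP F).map (MonoidHom.fst _ _)

/-- the permutation of the blocks -/
noncomputable def pi (F : FR h.EB) : f.PP F →* Perm T := (MonoidHom.snd _ _).comp (f.PP F).subtype

theorem PP_inj {x y : f.PP F} (H : x.1.1 = y.1.1) : x = y := Subtype.ext (Prod.ext H (Perm.ext fun t => f.inj (by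
  have h1 := x.2 t
  rw [H, y.2 t] at h1
  exact (Units.mul_left_inj _).1 h1.symm)))

theorem card_BB : Nat.card (f.BB F) = Nat.card (f.PP F) :=
  (Nat.card_congr (Equiv.ofBijective (fun x : f.PP F => (⟨x.1.1, x.1, x.2, rfl⟩ : f.BB F))
    ⟨fun _ _ e => f.PP_inj (congrArg Subtype.val e), by rintro ⟨_, x, hx, rfl⟩; exact ⟨⟨x, hx⟩, rfl⟩⟩)).symm

/-- monomial isometries -/
noncomputable def mi (hL : F.L = Lmax _) (σ : Perm ι) {c : ι → K} (hc : ∀ i, c i * h.τ (c i) = 1) : F.Iso :=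
  ⟨mkU _ (f.mo_uni σ hc), mem_Iso_max hL (f.mo_uni σ hc)⟩

theorem mi_val (hL : F.L = Lmax _) (σ : Perm ι) {c : ι → K} (hc : ∀ i, c i * h.τ (c i) = 1) :
    ((f.mi hL σ hc : h.EBˣ) : h.EB) = f.mo σ c := rfl

theorem pi_surj (hL : F.L = Lmax _) : Function.Surjective (f.pi F) := fun ρ => by
  let σ : Perm ι := Equiv.ofFiberEquiv (f := fun i => ρ (β i)) (g := β) fun t =>
    (Equiv.subtypeEquivRight fun i => ρ.eq_symm_apply.symm).trans
      ((Finite.equivFinOfCardEq (f.fib _)).trans (Finite.equivFinOfCardEq (f.fib t)).symm)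
  exact ⟨⟨(f.mi hL σ (c := fun _ => 1) fun _ => by simp, ρ), f.mo_e (fun i => Equiv.ofFiberEquiv_map _ i) _⟩, rfl⟩

theorem card_PP (hL : F.L = Lmax _) : Nat.card (f.PP F) = Nat.card (f.pi F).ker * (Fintype.card T).factorial := by
  rw [← (f.pi F).ker.card_mul_index, Subgroup.index_ker, MonoidHom.range_eq_top.2 (f.pi_surj hL), Subgroup.card_top,
    Nat.card_eq_fintype_card (α := Perm T), Fintype.card_perm]

theorem card_ker (hU : IsU h) (hq : Fintype.card K = q ^ 2) : Nat.card (f.pi F).ker ≤ oGU m q ^ Fintype.card T := by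
  have nd : ∀ t, ∀ v : LinearMap.range (h.ap (f.e t)), (∀ u : LinearMap.range (h.ap (f.e t)), h.b u v = 0) → v = 0 :=
    fun t v hv => Subtype.ext (h.nondeg _ fun u => by
      have h1 : h.b (h.ap (f.e t) u) v = 0 := hv ⟨_, u, rfl⟩
      rwa [SB.Idem.b_idem h (f.fr.symm _ (f.emem t)), SB.Idem.idem_of_mem h (f.fr.idem _ (f.emem t)) v.2] at h1)
  obtain ⟨c, hc⟩ := exists_half_U hU
  let G : ∀ t, FR (rsf h _ (nd t)).EB := fun t => ⟨(rsf h _ (nd t)).eb (c • 1), Lmax _, by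
    rw [star_scal, scal_add]
    exact (congrArg (fun z => (rsf h _ (nd t)).eb (z • 1)) hc).trans (scal_one _), Or.inr rfl⟩
  have hG : ∀ t, Nat.card (G t).Iso = oGU m q := fun t => (Size.card_Iso_U (h := rsf h _ (nd t)) hU hq).trans
    (congrArg (oGU · q) (f.rank t))
  have hk : ∀ x : (f.pi F).ker, ∀ t, ∀ y ∈ LinearMap.range (h.ap (f.e t)),
      h.ap (x.1.1.1 : h.EBˣ) y ∈ LinearMap.range (h.ap (f.e t)) := by
    rintro x t _ ⟨y, rfl⟩
    have h1 := x.1.2 t
    rw [show x.1.1.2 = 1 from x.2] at h1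
    exact ⟨h.ap (x.1.1.1 : h.EBˣ) y, (congrArg (h.ap · y) h1).symm⟩
  have hu : ∀ x : (f.pi F).ker, ∀ t, (rsf h _ (nd t)).eb ((h.ap (x.1.1.1 : h.EBˣ)).restrict (hk x t)) *
      star ((rsf h _ (nd t)).eb ((h.ap (x.1.1.1 : h.EBˣ)).restrict (hk x t))) = 1 := fun x t =>
    uni_of_b fun y z => (h.unit_iff _).1 x.1.1.1.2.1 y z
  refine (Nat.card_le_card_of_injective (fun (x : (f.pi F).ker) (t : T) =>
    (⟨mkU _ (hu x t), mem_Iso_max rfl (hu x t)⟩ : (G t).Iso)) fun x y e => ?_).trans (by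
      rw [Nat.card_pi, Finset.prod_congr rfl fun t _ => hG t, Finset.prod_const, Finset.card_univ])
  refine Subtype.ext (f.PP_inj (Subtype.ext (Units.ext (f.ext fun i => ?_))))
  have h1 : f.v i ∈ LinearMap.range (h.ap (f.e (β i))) := ⟨f.v i, (f.ap _ _).trans (if_pos rfl)⟩
  exact congrArg (fun z : (G (β i)).Iso => (((rsf h _ (nd (β i))).ap (z : (rsf h _ (nd (β i))).EBˣ) ⟨_, h1⟩ :
    LinearMap.range (h.ap (f.e (β i)))) : V)) (congrFun e (β i))

/-- diagonal isometries -/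
noncomputable def dg (hL : F.L = Lmax _) (i₀ : ι) {z : K} (hz : z * h.τ z = 1) : f.PP F :=
  ⟨(f.mi hL 1 (c := fun i => if i = i₀ then z else 1) fun i => by
    split_ifs
    exacts [hz, by simp], 1), f.mo_e (fun _ => rfl) _⟩

theorem det_dg (hL : F.L = Lmax _) (i₀ : ι) {z : K} (hz : z * h.τ z = 1) :
    LinearMap.det (h.ap ((f.dg hL i₀ hz).1.1 : h.EBˣ)) = z := (f.det_mo _ _).trans (by simp)

theorem det_mul (x y : F.Iso) : LinearMap.det (h.ap ((x * y : F.Iso) : h.EBˣ)) =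
    LinearMap.det (h.ap (x : h.EBˣ)) * LinearMap.det (h.ap (y : h.EBˣ)) := map_mul LinearMap.det _ _

theorem cc_le [Nonempty ι] (hU : IsU h) (hq : Fintype.card K = q ^ 2) {u : F.Iso} (hd : LinearMap.det (h.ap (u : h.EBˣ)) = 1)
    (X : Finset (Perm T)) (hX : ∀ x : f.PP F, IsConj u x.1.1 → x.1.2 ∈ X) :
    cc (f.BB F) u * (q + 1) ≤ X.card * Nat.card (f.pi F).ker := by
  obtain ⟨i₀⟩ := ‹Nonempty ι›
  have hL := (L_eq_U hU F).1
  choose s hs using f.pi_surj hL
  choose r hr using fun g : {g : F.Iso // IsConj u g ∧ g ∈ f.BB F} => show ∃ x : f.PP F, x.1.1 = g.1 by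
    obtain ⟨x, hx, e⟩ := g.2.2
    exact ⟨⟨x, hx⟩, e⟩
  have hz : ∀ z : {z : K // z * z ^ q = 1}, z.1 * h.τ z.1 = 1 := fun z => by rw [tau_eq hU hq, z.2]
  have h1 : ∀ g : {g : F.Iso // IsConj u g ∧ g ∈ f.BB F}, LinearMap.det (h.ap (g.1 : h.EBˣ)) = 1 := fun g => by
    obtain ⟨w, hw⟩ := isConj_iff.1 g.2.1
    rw [← hw, f.det_mul, f.det_mul, hd, mul_one, ← f.det_mul, mul_inv_cancel]
    exact map_one LinearMap.det
  rw [← LieClassical.HermBasic.card_norm_eq_one hq, cc, ← Nat.card_prod, ← Nat.card_eq_finsetCard, ← Nat.card_prod]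
  refine Nat.card_le_card_of_injective (fun x => (⟨(r x.1).1.2, hX _ (by rw [hr]; exact x.1.2.1)⟩,
    ⟨(s (r x.1).1.2)⁻¹ * (r x.1 * f.dg hL i₀ (hz x.2)), by
      rw [MonoidHom.mem_ker, map_mul, map_mul, map_inv, hs]
      exact (congrArg _ (mul_one _)).trans (inv_mul_cancel _)⟩)) ?_
  rintro ⟨g, z⟩ ⟨g', z'⟩ e
  obtain ⟨e1, e2⟩ := Prod.mk.inj e
  have e3 : (r g).1.2 = (r g').1.2 := congrArg Subtype.val e1
  have e4 : (s (r g).1.2)⁻¹ * (r g * f.dg hL i₀ (hz z)) = (s (r g').1.2)⁻¹ * (r g' * f.dg hL i₀ (hz z')) :=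
    congrArg Subtype.val e2
  rw [e3, mul_right_inj] at e4
  have e5 : (r g).1.1 * (f.dg hL i₀ (hz z)).1.1 = (r g').1.1 * (f.dg hL i₀ (hz z')).1.1 := congrArg (·.1.1) e4
  have e6 := congrArg (fun x : F.Iso => LinearMap.det (h.ap (x : h.EBˣ))) e5
  simp only [f.det_mul, f.det_dg, hr, h1, one_mul] at e6
  obtain rfl : z = z' := Subtype.ext e6
  rw [mul_left_inj, hr, hr] at e5
  rw [Subtype.ext e5]

/-- **the criterion** -/
theorem gd [Nonempty ι] {H : Subgroup (RingAut h.EB)} {p : ℕ} (k : KU h F q) (c : Ctx F H p) (hI : Inv H D) {u : f.PP F}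
    (hd : LinearMap.det (h.ap (u.1.1 : h.EBˣ)) = 1) (X : Finset (Perm T)) (hX : ∀ x : f.PP F, IsConj u.1.1 x.1.1 → x.1.2 ∈ X)
    {a b : ℕ} (ha : Cyc.cU ((u.1.1 : h.EBˣ) : h.EB) ≤ a) (hb : a * X.card < (b + 1) * ((q + 1) * (Fintype.card T).factorial))
    (hn : b ^ 3 * ((Fintype.card T).factorial * oGU m q ^ Fintype.card T) ≤ oGU (finrank K V) q) : Gd F H := by
  have hu := k.mem_comm u.1.1.2 hd
  let j : I0 F →* F.Iso := Subgroup.inclusion FR.comm_le_Iso
  have e1 : (H.subgroupOf F.S).comap (Cyc.pr F) = (f.BB F).comap j := by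
    ext w
    constructor
    · intro hw
      have h1 : ∀ t, ∃ t', f.e t' = cj h.EB w (f.e t) := fun t => (f.mem _).1 (hI _ hw _ (f.emem t))
      choose ρ hρ using h1
      have h2 : Function.Injective ρ := fun s t e => f.inj ((cj h.EB w).injective (by rw [← hρ, ← hρ, e]))
      refine ⟨(j w, Equiv.ofBijective ρ (Finite.injective_iff_bijective.1 h2)), fun t => ?_, rfl⟩
      exact ((congrArg (· * _) (hρ t)).trans (cj_mul_eq _ _)).symm
    · rintro ⟨x, hx, e⟩
      refine c.mem_of_inv hI (FrSp.not_inv c f.fr) (Cyc.pr F w).2 fun a ha => ?_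
      obtain ⟨t, rfl⟩ := (f.mem a).1 ha
      have h1 := hx t
      rw [show x.1 = j w from e] at h1
      exact (cj_eq_of_mul h1).symm ▸ f.emem _
  obtain ⟨i₀⟩ := ‹Nonempty ι›
  obtain ⟨e2, e3⟩ := N2.fx_over j (f.BB F) (fun g => by
    have h1 := f.det_norm k.u g.2.1
    have h2 : LinearMap.det (h.ap ((g * ((f.dg k.L i₀ h1).1.1)⁻¹ : F.Iso) : h.EBˣ)) = 1 := by
      have h3 := f.det_mul (g * ((f.dg k.L i₀ h1).1.1)⁻¹) (f.dg k.L i₀ h1).1.1
      rw [inv_mul_cancel_right, f.det_dg] at h3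
      exact mul_right_cancel₀ (left_ne_zero_of_mul_eq_one h1) (h3.symm.trans (one_mul _).symm)
    refine ⟨⟨_, k.mem_comm (g * ((f.dg k.L i₀ h1).1.1)⁻¹).2 h2⟩, _, (f.dg k.L i₀ h1).2, ?_⟩
    change _ = (g * ((f.dg k.L i₀ h1).1.1)⁻¹)⁻¹ * g
    rw [mul_inv_rev, inv_inv, inv_mul_cancel_right]
    rfl) ⟨_, hu⟩
  refine (N2.good_comap (Cyc.pr F) (Cyc.pr_surj F) _).1 ?_
  rw [e1]
  refine ⟨⟨_, hu⟩, ⟨u.1, u.2, rfl⟩, ?_⟩
  rw [e2, e3]
  have h1 := N2.fx_mul (f.BB F) u.1.1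
  have h2 := f.cc_le k.u k.card hd X hX
  have h3 : cn u.1.1 ≤ a := ((Cyc.cn_eq u.1.1.2).le.trans (Cyc.cO_le_cU F _)).trans ha
  have h4 := (f.BB F).card_mul_index
  have h5 := f.card_ker (F := F) k.u k.card
  rw [f.card_BB, f.card_PP k.L] at h1 h4
  rw [Size.card_Iso_U k.u k.card] at h4
  change fx (f.BB F) u.1.1 ^ 3 ≤ _
  have h6 : 0 < Nat.card (f.pi F).ker := Nat.card_pos
  generalize Nat.card (f.pi F).ker = N at h1 h2 h4 h5 h6
  have h7 : fx (f.BB F) u.1.1 ≤ b := by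
    refine Nat.le_of_lt_succ (Nat.lt_of_mul_lt_mul_right (lt_of_le_of_lt (Nat.le_of_mul_le_mul_right ?_ h6) hb))
    calc _ = fx (f.BB F) u.1.1 * (N * (Fintype.card T).factorial) * (q + 1) := by ring
      _ = cn u.1.1 * (cc (f.BB F) u.1.1 * (q + 1)) := by rw [h1, mul_assoc]
      _ ≤ a * (X.card * N) := Nat.mul_le_mul h3 h2
      _ = _ := (mul_assoc _ _ _).symm
  refine Nat.le_of_mul_le_mul_left ?_ (Nat.mul_pos h6 (Nat.factorial_pos (Fintype.card T)))
  rw [h4]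
  refine le_trans ?_ hn
  rw [mul_comm, mul_comm N]
  exact Nat.mul_le_mul (Nat.pow_le_pow_left h7 3) (Nat.mul_le_mul_left _ h5)

end Fm

end Cfsg.Agent.N2C.FrU
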